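import Groth.Agent.SpanNearLib.Main
import Groth.Agent.H1ZeroLib.Koszul
import Groth.Agent.SecMulGenLib.Tmul
import Groth.Agent.QCohLib.Coherent

/-!
# Powers are spanned by products near a normally generated fibre
-/

set_option autoImplicit false
set_option backward.isDefEq.respectTransparency false
set_option backward.isDefEq.respectTransparency.types false
set_option linter.style.haveILetI false
set_option linter.unusedSectionVars false
set_option maxHeartbeats 1000000
set_option synthInstance.maxHeartbeats 100000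

universe u

open CategoryTheory CategoryTheory.Limits AlgebraicGeometry TopologicalSpace Opposite
open Groth.Agent.PullbackMod Groth.Agent.DCohLib Groth.Agent.ParaFLib Groth.Agent.AmpleLib

noncomputable section

namespace Groth.Agent.SpanNearLib

variable {X S : Scheme.{u}} (f : X ⟶ S) [IsAffine S] [IsLocallyNoetherian S] [IsProper f]
  [LocallyOfFinitePresentation f] [Flat f] (s : S)

theorem scal_eq (b : Γ(S, ⊤)) :
    scal f s b = (f.fiberι s).appLE ⊤ ⊤ le_rfl (f.appTop b) := by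
  have h := congr($(congrArg Scheme.Hom.appTop (f.fiber_fac s)) b)
  simp only [scal, ev, Scheme.Hom.appLE, Scheme.Hom.preimage_top] at *
  simpa using h.symm

theorem pull_smul {F : X.Modules} (b : Γ(S, ⊤)) (t : Γ(F, ⊤)) :
    pull f s (f.appTop b • t) = scal f s b • pull f s t := by
  rw [scal_eq]
  exact pullMap_smul _ _ _ _ _

theorem scal_mul (b b' : Γ(S, ⊤)) : scal f s (b * b') = scal f s b * scal f s b' := by
  simp only [scal, map_mul]

theorem app_pull_comb {F : X.Modules} {G : (f.fiber s).Modules} (ψ : (Scheme.Modules.pullback (f.fiberι s)).obj F ⟶ G)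
    (b b' : Γ(S, ⊤)) (t t' : Γ(F, ⊤)) (p q : Γ(G, ⊤)) (e : ψ.app ⊤ (pull f s t) = scal f s b • p)
    (e' : ψ.app ⊤ (pull f s t') = scal f s b' • q) :
    ψ.app ⊤ (pull f s (f.appTop b' • t + f.appTop b • t')) = scal f s (b * b') • (p + q) := by
  rw [show pull f s (f.appTop b' • t + f.appTop b • t') = pull f s (f.appTop b' • t) + pull f s (f.appTop b • t')
      from map_add _ _ _, map_add, pull_smul, pull_smul, Scheme.Modules.Hom.app_smul, Scheme.Modules.Hom.app_smul, e, e',
    smul_add, smul_smul, smul_smul, scal_mul, mul_comm]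

theorem app_pull_neg {F : X.Modules} {G : (f.fiber s).Modules} (ψ : (Scheme.Modules.pullback (f.fiberι s)).obj F ⟶ G)
    (b : Γ(S, ⊤)) (t : Γ(F, ⊤)) (p : Γ(G, ⊤)) (e : ψ.app ⊤ (pull f s t) = scal f s b • p) :
    ψ.app ⊤ (pull f s (-t)) = scal f s b • -p := by
  rw [show pull f s (-t) = -pull f s t from map_neg _ _, map_neg, e, smul_neg]

theorem app_pull_zero {F : X.Modules} {G : (f.fiber s).Modules} (ψ : (Scheme.Modules.pullback (f.fiberι s)).obj F ⟶ G)
    (r : Γ(f.fiber s, ⊤)) : ψ.app ⊤ (pull f s (0 : Γ(F, ⊤))) = r • (0 : Γ(G, ⊤)) := by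
  rw [show pull f s (0 : Γ(F, ⊤)) = 0 from map_zero _, map_zero, smul_zero]

theorem app_eq_smul {F : X.Modules} {G : (f.fiber s).Modules} (ψ : (Scheme.Modules.pullback (f.fiberι s)).obj F ≅ G)
    (b : Γ(S, ⊤)) (t : Γ(F, ⊤)) (σ : Γ((Scheme.Modules.pullback (f.fiberι s)).obj F, ⊤))
    (e : ψ.hom.app ⊤ (pull f s t) = scal f s b • ψ.hom.app ⊤ σ) : pull f s t = scal f s b • σ := by
  rw [← Scheme.Modules.Hom.app_smul] at e
  exact (ConcreteCategory.bijective_of_isIso (ψ.hom.app ⊤)).1 e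

variable {L : X.Modules} (hL : PicF.IsInvertible L)
  (hng : ∀ n : ℕ, 1 ≤ n → ∀ z, z ∈ prods (CohB1.tensorPow ((Scheme.Modules.pullback (f.fiberι s)).obj L) n)
    ((Scheme.Modules.pullback (f.fiberι s)).obj L) ⊤)
  (h1 : ∀ n : ℕ, 1 ≤ n → Subsingleton (CohIII.fiberH f (CohB1.tensorPow L n) s 1))

include hL h1 in
theorem subsingleton_one : Subsingleton (CohIII.fiberH f L s 1) := by
  haveI : Subsingleton (Coh.HH (f.fiber s) ((Scheme.Modules.pullback (f.fiberι s)).obj (CohB1.tensorPow L 1)) 1) :=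
    h1 1 le_rfl
  exact ProjCoh.subsingleton_of_iso ((Scheme.Modules.pullback (f.fiberι s)).mapIso (powOne L)) 1

include hL hng h1 in
/-- Each degree near the fibre. -/
theorem exists_smul_mem_prods (n : ℕ) (hn : 1 ≤ n) :
    ∃ a : Γ(S, ⊤), IsUnit (ev s a) ∧
      ∀ x : Γ(tmod (CohB1.tensorPow L n) L, ⊤), f.appTop a • x ∈ prods (CohB1.tensorPow L n) L ⊤ := by
  let g' := f.fiberι s
  refine exists_smul_mem f s (F := tmod (CohB1.tensorPow L n) L) (isInvertible_tensorPow hL (n + 1))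
    (h1 (n + 1) (by omega)) (prods (CohB1.tensorPow L n) L ⊤) (fun r z hz => smul_mem_prods r hz) fun σ => ?_
  let φ := pullTensor g' (CohB1.tensorPow L n) L ≪≫ tIso (pullPow g' L n) (Iso.refl _)
  suffices key : ∀ w ∈ prods (CohB1.tensorPow ((Scheme.Modules.pullback g').obj L) n)
      ((Scheme.Modules.pullback g').obj L) ⊤, ∃ (b : Γ(S, ⊤)) (t : Γ(tmod (CohB1.tensorPow L n) L, ⊤)),
        IsUnit (ev s b) ∧ t ∈ prods (CohB1.tensorPow L n) L ⊤ ∧ φ.hom.app ⊤ (pull f s t) = scal f s b • w by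
    obtain ⟨b, t, hb, ht, e⟩ := key _ (hng n hn (φ.hom.app ⊤ σ))
    exact ⟨b, t, hb, ht, app_eq_smul f s φ b t σ e⟩
  intro w hw
  induction hw using AddSubgroup.closure_induction with
  | mem w hw =>
    obtain ⟨⟨a, c⟩, rfl⟩ := hw
    obtain ⟨a', rfl⟩ := (ConcreteCategory.bijective_of_isIso ((pullPow g' L n).hom.app ⊤)).2 a
    obtain ⟨b, m, hb, hm⟩ := exists_lift f s (isInvertible_tensorPow hL n) (h1 n hn) a'
    obtain ⟨b', τ, hb', hτ⟩ := exists_lift f s hL (subsingleton_one f s hL h1) c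
    refine ⟨b * b', pairS _ _ m τ, by rw [map_mul]; exact hb.mul hb', AddSubgroup.subset_closure ⟨(m, τ), rfl⟩, ?_⟩
    show (tIso (pullPow g' L n) (Iso.refl _)).hom.app ⊤ ((pullTensor g' _ L).hom.app ⊤ (pull f s (pairS _ _ m τ))) = _
    rw [show (pullTensor g' (CohB1.tensorPow L n) L).hom.app ⊤ (pull f s (pairS _ _ m τ)) =
        pairS _ _ (pull f s m) (pull f s τ) from HomFibreLib.pullTensor_pullMap g' _ L m τ, hm, hτ]
    refine (SecMulGenLib.tIso_tmul (pullPow g' L n) (Iso.refl _) ⊤ _ _).trans ?_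
    show pairS _ _ ((pullPow g' L n).hom.app ⊤ (scal f s b • a')) (scal f s b' • c) = _
    rw [Scheme.Modules.Hom.app_smul, pairS_smul_left, pairS_smul_right, smul_smul, scal_mul]
  | zero => exact ⟨1, 0, by rw [map_one]; exact isUnit_one, zero_mem _, app_pull_zero f s φ.hom _⟩
  | add p q _ _ hp hq =>
    obtain ⟨b, t, hb, ht, e⟩ := hp
    obtain ⟨b', t', hb', ht', e'⟩ := hq
    refine ⟨b * b', f.appTop b' • t + f.appTop b • t', by rw [map_mul]; exact hb.mul hb',
      add_mem (smul_mem_prods _ ht) (smul_mem_prods _ ht'), app_pull_comb f s φ.hom b b' t t' p q e e'⟩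
  | neg p _ hp =>
    obtain ⟨b, t, hb, ht, e⟩ := hp
    exact ⟨b, -t, hb, neg_mem ht, app_pull_neg f s φ.hom b t p e⟩

theorem isUnit_app_res {a : Γ(S, ⊤)} :
    IsUnit (f.app (S.basicOpen a) (S.presheaf.map (homOfLE le_top).op a)) :=
  IsUnit.map (f.app (S.basicOpen a)).hom (S.toRingedSpace.isUnit_res_basicOpen a)

theorem app_res_eq (a : Γ(S, ⊤)) (V : S.Opens) :
    f.app V (S.presheaf.map (homOfLE le_top).op a) =
      X.presheaf.map (homOfLE (le_top : f ⁻¹ᵁ V ≤ ⊤)).op (f.appTop a) :=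
  congr($(f.naturality (homOfLE (le_top : V ≤ ⊤)).op).hom a)

/-- A multiple of every global section gives all sections over the basic open. -/
theorem mem_prods_of_smul {M : X.Modules} {N : X.Modules} [Coh.IsQCoh (tmod M N)] (a : Γ(S, ⊤))
    (h : ∀ x : Γ(tmod M N, ⊤), f.appTop a • x ∈ prods M N ⊤) (z : Γ(tmod M N, f ⁻¹ᵁ S.basicOpen a)) :
    z ∈ prods M N (f ⁻¹ᵁ S.basicOpen a) := by
  obtain ⟨k, w, hw⟩ := exists_frac f (tmod M N) a z
  obtain ⟨v, hv⟩ := (isUnit_app_res f (a := a)).pow (k + 1)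
  have hz : (v : Γ(X, f ⁻¹ᵁ S.basicOpen a)) • z ∈ prods M N (f ⁻¹ᵁ S.basicOpen a) := by
    rw [hv, pow_succ', mul_smul, ← map_pow (f.app _).hom, ← map_pow, hw, app_res_eq, ← Scheme.Modules.map_smul]
    exact res_mem_prods le_top (h w)
  have := smul_mem_prods (↑v⁻¹ : Γ(X, f ⁻¹ᵁ S.basicOpen a)) hz
  rwa [smul_smul, Units.inv_mul, one_smul] at this

theorem exists_pairS_one (M : X.Modules) {U : X.Opens} (w : Γ(tmod M (Coh.structureModule X), U)) :
    ∃ m : Γ(M, U), pairS M (Coh.structureModule X) m (1 : Γ(X, U)) = w := by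
  let σ : Γ(Coh.structureModule X, ⊤) := (1 : Γ(X, ⊤))
  haveI : IsIso (pairRight M (Coh.structureModule X) σ) := by
    refine (isIso_iff_stalk _).2 fun x => ?_
    have hfun : ⇑(stalkLin (pairRight M (Coh.structureModule X) σ) x) =
        stalkTensor x M (Coh.structureModule X) ∘ fun v => v ⊗ₜ oneG x := funext fun v =>
      H1ZeroLib.stalk_pairRight M _ σ x v
    rw [hfun]
    let e := LinearEquiv.ofBijective (LinearMap.toSpanSingleton (X.presheaf.stalk x) _ (oneG x)) (bijective_oneG x)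
    let E := (TensorProduct.rid (X.presheaf.stalk x) (M.presheaf.stalk x)).symm.trans
      (LinearEquiv.lTensor (M.presheaf.stalk x) e)
    have hE : (fun v => v ⊗ₜ[X.presheaf.stalk x] oneG x) = ⇑E := funext fun v => by simp [E, e]
    rw [hE]
    exact (stalkTensor x M _).bijective.comp E.bijective
  obtain ⟨m, hm⟩ := (ConcreteCategory.bijective_of_isIso ((pairRight M (Coh.structureModule X) σ).app U)).2 w
  refine ⟨m, ?_⟩
  rw [← hm]
  show _ = pairS M _ m (resT σ U)
  congr 1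
  exact (map_one (X.presheaf.map _).hom).symm

theorem mulS_mem_prods (M : X.Modules) {N : X.Modules} (τ : Γ(N, ⊤)) {U : X.Opens}
    (w : Γ(tmod M (Coh.structureModule X), U)) :
    (CurveLib.mulS M (secHom N τ)).app U w ∈ prods M N U := by
  obtain ⟨m, rfl⟩ := exists_pairS_one M w
  refine AddSubgroup.subset_closure ⟨(m, resT τ U), ?_⟩
  rw [show resT τ U = (secHom N τ).app U (1 : Γ(X, U)) from (secHom_app_one N τ U).symm]
  refine TopCat.Presheaf.section_ext (⟨(tmod M N).presheaf, (tmod M N).isSheaf⟩ : TopCat.Sheaf Ab X) U _ _ fun x hx => ?_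
  show (tmod M N).presheaf.germ U x hx (pairS M N m ((secHom N τ).app U (1 : Γ(X, U)))) =
    (tmod M N).presheaf.germ U x hx ((CurveLib.mulS M (secHom N τ)).app U (pairS M _ m (1 : Γ(X, U))))
  rw [AmpleLib.germ_pairS, ← stalkLin_germ (CurveLib.mulS M (secHom N τ)), AmpleLib.germ_pairS, stalkTensor_natural_right,
    LinearMap.lTensor_tmul, stalkLin_germ]

/-- Tensoring a monomorphism which is onto over an open with an invertible module. -/
theorem bijective_app_tens {M I N : X.Modules} (hM : PicF.IsInvertible M) (ι : I ⟶ N) [Mono ι] {W : X.Opens}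
    (h : ∀ x ∈ W, Function.Surjective (stalkLin ι x)) : Function.Bijective (((VBLib.tensL M).map ι).app W) := by
  haveI : Mono ((VBLib.tensL M).map ι) :=
    (VBLib.shortExact_tensL (DevLib.cokerSeq_shortExact ι) (CurveLib.isFinLocFreeOfRank_one hM)).mono_f
  refine RelTildeLib.app_bijective_of_stalk _ (U := W) (fun x hx => ⟨(mono_iff_stalk _).1 inferInstance x, fun z => ?_⟩)
    le_rfl
  obtain ⟨u, rfl⟩ := (stalkTensor x M N).surjective z
  obtain ⟨u', rfl⟩ := LinearMap.lTensor_surjective _ (h x hx) u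
  exact ⟨stalkTensor x M _ u', stalkTensor_natural_right x ι u'⟩

theorem tens_sum_mem {M N : X.Modules} {n : ℕ} (τ : Fin n → Γ(N, ⊤)) {U : X.Opens}
    (q : ∀ _ : Fin n, ((∐ fun _ : Fin n => Coh.structureModule X) ⟶ Coh.structureModule X))
    (φ : (∐ fun _ : Fin n => Coh.structureModule X) ⟶ N) (hφ : φ = ∑ i, q i ≫ secHom N (τ i))
    (p : Γ((VBLib.tensL M).obj (∐ fun _ : Fin n => Coh.structureModule X), U)) :
    ((VBLib.tensL M).map φ).app U p ∈ prods M N U := by
  rw [hφ, Functor.map_sum, H1ZeroLib.app_sum]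
  refine sum_mem fun i _ => ?_
  rw [Functor.map_comp]
  exact mulS_mem_prods M (τ i) _

variable (hLa : CohB1.IsAmple L)

include hL hLa in
/-- High degrees near the fibre at once. -/
theorem exists_large {n : ℕ} (τ : Fin n → Γ(L, ⊤)) (U₀ : S.Opens)
    (hU₀ : ∀ x : X, f x ∈ U₀ → ∃ i, x ∈ CohB1.genLocus L (secHom L (τ i))) :
    ∃ n₀ : ℕ, ∀ j, n₀ ≤ j → ∀ a : Γ(S, ⊤), S.basicOpen a ≤ U₀ →
      ∀ z : Γ(tmod (CohB1.tensorPow L j) L, f ⁻¹ᵁ S.basicOpen a),
        z ∈ prods (CohB1.tensorPow L j) L (f ⁻¹ᵁ S.basicOpen a) := by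
  classical
  haveI : IsLocallyNoetherian X := LocallyOfFiniteType.isLocallyNoetherian f
  let P : X.Modules := ∐ fun _ : Fin n => Coh.structureModule X
  let φ : P ⟶ L := Sigma.desc fun i => secHom L (τ i)
  have hP : Coh.IsCoh P := CurveLib.isCoh_of_isFinLocFree
    (DCohLib.isFinLocFree_sigma n _ fun _ => BCLib.isFinLocFree_structureModule X)
  have hLc := CurveLib.isCoh_of_isInvertible hL
  have hI : Coh.IsCoh (Abelian.image φ) :=
    (QCohLib.isCoh_kernel_cokernel (cokernel.π φ) hLc (QCohLib.isCoh_kernel_cokernel φ hP hLc).2).1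
  have hK : Coh.IsCoh (kernel (Abelian.factorThruImage φ)) :=
    (QCohLib.isCoh_kernel_cokernel (Abelian.factorThruImage φ) hP hI).1
  have hS := CMRegLib.shortExact_ker (Abelian.factorThruImage φ)
  let c : Spec Γ(S, ⊤) ≅ S := S.isoSpec.symm
  haveI : IsNoetherianRing Γ(S, ⊤) := IsLocallyNoetherian.component_noetherian ⟨⊤, isAffineOpen_top S⟩
  obtain ⟨n₀, hn₀⟩ := AmpleEmb.serre_vanishing (R := Γ(S, ⊤)) (f ≫ S.isoSpec.hom) hLa hK
  refine ⟨n₀, fun j hj a ha z => ?_⟩
  let M := CohB1.tensorPow L j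
  let T := VBLib.tensL M
  have hM : PicF.IsInvertible M := isInvertible_tensorPow hL j
  have hT := VBLib.shortExact_tensL hS (CurveLib.isFinLocFreeOfRank_one hM)
  have hH : Subsingleton (Coh.HH X (T.obj (kernel (Abelian.factorThruImage φ))) 1) :=
    haveI : Subsingleton (Coh.HH X (CohB1.tensorMod (kernel (Abelian.factorThruImage φ)) M) 1) := hn₀ j hj 1 one_pos
    ProjCoh.subsingleton_of_iso (comm (kernel (Abelian.factorThruImage φ)) M) 1
  let W := f ⁻¹ᵁ S.basicOpen a
  have hbij : Function.Bijective ((T.map (Abelian.image.ι φ)).app W) := by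
    refine bijective_app_tens hM (Abelian.image.ι φ) fun x hx v => ?_
    obtain ⟨i, hi⟩ := hU₀ x (ha hx)
    obtain ⟨c, hc⟩ := ((mem_genLocus_iff hL).1 hi).2 v
    refine ⟨stalkLin (Sigma.ι (fun _ : Fin n => Coh.structureModule X) i ≫ Abelian.factorThruImage φ) x
      (c • oneG x), ?_⟩
    rw [← LinearMap.comp_apply, ← stalkLin_comp, Category.assoc, Abelian.image.fac, Sigma.ι_desc, map_smul,
      CurveLib.stalkLin_secHom, ← hc, sec_secHom]
  obtain ⟨z', rfl⟩ : ∃ z', (T.map (Abelian.image.ι φ)).app W z' = z := hbij.2 z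
  haveI : Coh.IsQCoh (T.obj (Abelian.image φ)) :=
    (Nakai.isCoh_tensorMod (CurveLib.isCoh_of_isInvertible hM) hI).1
  obtain ⟨k, w, hw⟩ := exists_frac f (T.obj (Abelian.image φ)) a z'
  obtain ⟨p, rfl⟩ := @CohBase.sections_surjective _ _ _ (QCohLib.toAb_shortExact hT) ⊤
    (SerreAff.subsingleton_HU_top hH) w
  obtain ⟨v, hv⟩ := (isUnit_app_res f (a := a)).pow k
  have key : (v : Γ(X, W)) • (T.map (Abelian.image.ι φ)).app W z' ∈ prods M L W := by
    rw [← Scheme.Modules.Hom.app_smul, hv, ← map_pow (f.app _).hom, ← map_pow, hw]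
    show (T.map (Abelian.image.ι φ)).app W ((T.obj _).presheaf.map _ ((T.map (Abelian.factorThruImage φ)).app ⊤ p)) ∈ _
    rw [show (T.map (Abelian.image.ι φ)).app W ((T.obj (Abelian.image φ)).presheaf.map
        (homOfLE (le_top : W ≤ ⊤)).op ((T.map (Abelian.factorThruImage φ)).app ⊤ p)) =
        (tmod M L).presheaf.map (homOfLE (le_top : W ≤ ⊤)).op
          ((T.map (Abelian.image.ι φ)).app ⊤ ((T.map (Abelian.factorThruImage φ)).app ⊤ p)) from
      congr($((T.map (Abelian.image.ι φ)).mapPresheaf.naturality (homOfLE (le_top : W ≤ ⊤)).op) _)]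
    refine res_mem_prods le_top ?_
    let q : ∀ i : Fin n, (P ⟶ Coh.structureModule X) := fun i => Sigma.desc fun j => if j = i then 𝟙 _ else 0
    have htot : φ = ∑ i, q i ≫ secHom L (τ i) := by
      refine Sigma.hom_ext _ _ fun i => ?_
      simp [q, φ, Preadditive.comp_sum, ite_comp]
    rw [show (T.map (Abelian.image.ι φ)).app ⊤ ((T.map (Abelian.factorThruImage φ)).app ⊤ p) = (T.map φ).app ⊤ p by
      conv_rhs => rw [← Abelian.image.fac φ, Functor.map_comp]
      rfl]
    exact tens_sum_mem τ q φ htot p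
  have := smul_mem_prods (↑v⁻¹ : Γ(X, W)) key
  rwa [smul_smul, Units.inv_mul, one_smul] at this

end Groth.Agent.SpanNearLib
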