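import Groth.Agent.RelVALib.CurveNhd
import Groth.Agent.HomFibreLib.Cmp
import Groth.Agent.VBLib.TwoSections
import Groth.Agent.AmpleEmb.Serre
import Groth.Agent.RelTildeLib.Period
import Mathlib.RingTheory.Support

/-!
# Products of sections span near a fibre on which they span
-/

set_option autoImplicit false
set_option backward.isDefEq.respectTransparency false
set_option backward.isDefEq.respectTransparency.types false
set_option linter.style.haveILetI false
set_option maxHeartbeats 1000000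
set_option synthInstance.maxHeartbeats 100000
set_option linter.unusedSectionVars false

universe u

open CategoryTheory CategoryTheory.Limits AlgebraicGeometry TopologicalSpace Opposite
open Groth.Agent.PullbackMod Groth.Agent.DCohLib Groth.Agent.ParaFLib Groth.Agent.AmpleLib
open scoped TensorProduct

noncomputable section

namespace Groth.Agent.SpanNearLib

variable {X : Scheme.{u}}

/-- The span of the products of sections over an open. -/
def prods (M N : X.Modules) (V : X.Opens) : AddSubgroup Γ(tmod M N, V) :=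
  AddSubgroup.closure (Set.range fun p : Γ(M, V) × Γ(N, V) => pairS M N p.1 p.2)

theorem smul_mem_prods {M N : X.Modules} {V : X.Opens} (r : Γ(X, V)) {z : Γ(tmod M N, V)}
    (hz : z ∈ prods M N V) : r • z ∈ prods M N V := by
  induction hz using AddSubgroup.closure_induction with
  | mem w hw =>
    obtain ⟨⟨m, n⟩, rfl⟩ := hw
    exact AddSubgroup.subset_closure ⟨(r • m, n), pairS_smul_left r m n⟩
  | zero => rw [smul_zero]; exact zero_mem _
  | add a b _ _ ha hb => rw [smul_add]; exact add_mem ha hb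
  | neg a _ ha => rw [smul_neg]; exact neg_mem ha

theorem res_mem_prods {M N : X.Modules} {U V : X.Opens} (h : V ≤ U) {z : Γ(tmod M N, U)}
    (hz : z ∈ prods M N U) : (tmod M N).presheaf.map (homOfLE h).op z ∈ prods M N V := by
  induction hz using AddSubgroup.closure_induction with
  | mem w hw =>
    obtain ⟨⟨m, n⟩, rfl⟩ := hw
    exact AddSubgroup.subset_closure ⟨(_, _), (res_pairS h m n).symm⟩
  | zero => rw [map_zero]; exact zero_mem _
  | add a b _ _ ha hb => rw [map_add]; exact add_mem ha hb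
  | neg a _ ha => rw [map_neg]; exact neg_mem ha

variable {S : Scheme.{u}} (f : X ⟶ S)

/-- Sections over the inverse image of a basic open are fractions of global ones. -/
theorem exists_frac [IsAffine S] [QuasiCompact f] [QuasiSeparated f] (F : X.Modules) [Coh.IsQCoh F]
    (a : Γ(S, ⊤)) (z : Γ(F, f ⁻¹ᵁ S.basicOpen a)) :
    ∃ (k : ℕ) (w : Γ(F, ⊤)), f.app (S.basicOpen a) (S.presheaf.map (homOfLE le_top).op (a ^ k)) • z =
      F.presheaf.map (homOfLE (le_top : f ⁻¹ᵁ S.basicOpen a ≤ ⊤)).op w := by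
  let M := (Scheme.Modules.pushforward f).obj F
  haveI : Coh.IsQCoh M := QCohLib.isQCoh_pushforward F f
  obtain ⟨k, w, hw⟩ := (QCohLib.locAt M (isAffineOpen_top S)).extend a (show Γ(M, S.basicOpen a) from z)
  exact ⟨k, w, hw.symm⟩

variable [IsAffine S] [IsProper f] [LocallyOfFinitePresentation f] [Flat f] (s : S)

/-- Evaluation at the point. -/
def ev : Γ(S, ⊤) →+* Γ(Spec (S.residueField s), ⊤) :=
  ((S.fromSpecResidueField s).appLE ⊤ ⊤ (GenBCLib.le_preimage_fromSpecResidueField trivial)).hom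

theorem isUnit_ev_iff (b : Γ(S, ⊤)) : IsUnit (ev s b) ↔ s ∈ S.basicOpen b := by
  let g := S.fromSpecResidueField s
  have h1 : s ∈ S.basicOpen b ↔ g ⁻¹ᵁ S.basicOpen b = ⊤ := by
    constructor
    · exact fun h => eq_top_iff.2 fun z _ => show g z ∈ S.basicOpen b from
        (S.fromSpecResidueField_apply s z).symm ▸ h
    · intro h
      have := (h.ge : (⊤ : (Spec (S.residueField s)).Opens) ≤ _) (show IsLocalRing.closedPoint (S.residueField s) ∈ ⊤ from trivial)
      exact S.fromSpecResidueField_apply s _ ▸ this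
  rw [h1, Scheme.preimage_basicOpen]
  refine ⟨fun h => ?_, fun h => ?_⟩
  · rw [show ev s b = g.app ⊤ b from by simp [ev, g, Scheme.Hom.appLE]] at h
    exact (Scheme.basicOpen_of_isUnit _ h).trans rfl
  · rw [show ev s b = g.app ⊤ b from by simp [ev, g, Scheme.Hom.appLE]]
    exact RingedSpace.isUnit_of_isUnit_germ _ _ _ fun z hz => ((Scheme.mem_basicOpen _ _ _ _).1 (h.ge trivial))

theorem isField_sections : IsField Γ(Spec (S.residueField s), ⊤) :=
  MulEquiv.isField (Field.toIsField (S.residueField s))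
    (Scheme.ΓSpecIso (S.residueField s)).commRingCatIsoToRingEquiv.toMulEquiv

/-- The pullback of a global section to the fibre. -/
abbrev pull {F : X.Modules} (t : Γ(F, ⊤)) :
    Γ((Scheme.Modules.pullback (f.fiberι s)).obj F, ⊤) :=
  pullMap (f.fiberι s) F le_rfl t

/-- A scalar on the fibre. -/
abbrev scal (b : Γ(S, ⊤)) : Γ(f.fiber s, ⊤) := (f.fiberToSpecResidueField s).appTop (ev s b)

/-- Fibre sections are pulled back global sections, up to units. -/
theorem exists_lift {F : X.Modules} (hF : PicF.IsInvertible F) (h1 : Subsingleton (CohIII.fiberH f F s 1))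
    (σ : Γ((Scheme.Modules.pullback (f.fiberι s)).obj F, ⊤)) :
    ∃ (b : Γ(S, ⊤)) (t : Γ(F, ⊤)), IsUnit (ev s b) ∧ pull f s t = scal f s b • σ := by
  haveI : Coh.IsQCoh F := InvExt.isQCoh_of_isInvertible hF
  haveI := GenSeesawLib.isIso_bc0_fibre f (CurveLib.isFinLocFree_of_isInvertible hF) s h1
  let M := (Scheme.Modules.pushforward f).obj F
  haveI : Coh.IsQCoh M := QCohLib.isQCoh_pushforward F f
  let g := S.fromSpecResidueField s
  let f' := f.fiberToSpecResidueField s
  let bc := CohBC.bc0 f g f' (f.fiberι s) (f.fiber_fac s) F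
  obtain ⟨x, hx⟩ := GenBCLib.surjective_top_of_epi bc
    (show Γ((Scheme.Modules.pushforward f').obj ((Scheme.Modules.pullback (f.fiberι s)).obj F), ⊤) from σ)
  obtain ⟨b, t, hb, ht⟩ := GenSeesawLib.exists_smul_eq_pullMap (M := M) (isAffineOpen_top S) (s := s) (show s ∈ (⊤ : S.Opens) from trivial) x
  refine ⟨b, t, hb, ?_⟩
  have h2 := congrArg (bc.app ⊤) ht
  rw [GenBCLib.bc0_pullMap (f.fiber_fac s) F (GenBCLib.le_preimage_fromSpecResidueField (show s ∈ (⊤ : S.Opens) from trivial)) le_rfl t,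
    Scheme.Modules.Hom.app_smul, hx] at h2
  exact h2.symm

/-- A submodule of sections filling the fibre contains a multiple of everything. -/
theorem exists_smul_mem [IsLocallyNoetherian S] {F : X.Modules} (hF : PicF.IsInvertible F)
    (h1 : Subsingleton (CohIII.fiberH f F s 1)) (N : AddSubgroup Γ(F, ⊤))
    (hN : ∀ (r : Γ(X, ⊤)), ∀ z ∈ N, r • z ∈ N)
    (h : ∀ σ, ∃ (b : Γ(S, ⊤)) (t : Γ(F, ⊤)), IsUnit (ev s b) ∧ t ∈ N ∧ pull f s t = scal f s b • σ) :
    ∃ a : Γ(S, ⊤), IsUnit (ev s a) ∧ ∀ x : Γ(F, ⊤), f.appTop a • x ∈ N := by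
  haveI : IsLocallyNoetherian X := LocallyOfFiniteType.isLocallyNoetherian f
  have hFc := CurveLib.isCoh_of_isInvertible hF
  haveI := hFc.1
  haveI := GenSeesawLib.isIso_bc0_fibre f (CurveLib.isFinLocFree_of_isInvertible hF) s h1
  let M := (Scheme.Modules.pushforward f).obj F
  haveI : Coh.IsQCoh M := QCohLib.isQCoh_pushforward F f
  haveI : Module.Finite Γ(S, ⊤) Γ(M, ⊤) :=
    QCohLib.finite_sections_of_isCoh (RpushLib.isCoh_push f hFc) (isAffineOpen_top S)
  let g := S.fromSpecResidueField s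
  let e := GenBCLib.le_preimage_fromSpecResidueField (s := s) (V := (⊤ : S.Opens)) trivial
  let K := Γ(Spec (S.residueField s), ⊤)
  letI : Field K := (isField_sections s).toField
  letI : Algebra Γ(S, ⊤) K := (ev s).toAlgebra
  letI := Module.compHom Γ((Scheme.Modules.pullback g).obj M, ⊤) (g.appLE ⊤ ⊤ e).hom
  haveI : IsScalarTower Γ(S, ⊤) K Γ((Scheme.Modules.pullback g).obj M, ⊤) :=
    .of_algebraMap_smul fun _ _ => rfl
  let E := (isBaseChange_pullMapL g M (isAffineOpen_top S) (isAffineOpen_top _) e).equiv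
  let bc := CohBC.bc0 f g (f.fiberToSpecResidueField s) (f.fiberι s) (f.fiber_fac s) F
  have hinj : Function.Injective fun z : K ⊗[Γ(S, ⊤)] Γ(M, ⊤) => bc.app ⊤ (E z) :=
    (ConcreteCategory.bijective_of_isIso (bc.app ⊤)).1.comp E.injective
  have hψ : ∀ (r : K) (t : Γ(M, ⊤)), bc.app ⊤ (E (r ⊗ₜ t)) =
      ((f.fiberToSpecResidueField s).appTop r : Γ(f.fiber s, ⊤)) •
        pull f s (show Γ(F, ⊤) from t) := fun r t => by
    rw [show E (r ⊗ₜ t) = r • pullMap g M e t from IsBaseChange.equiv_tmul _ _ _,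
      Scheme.Modules.Hom.app_smul, GenBCLib.bc0_pullMap (f.fiber_fac s) F e le_rfl t]
    rfl
  let N' : Submodule Γ(S, ⊤) Γ(M, ⊤) :=
    { carrier := {x | (show Γ(F, ⊤) from x) ∈ N}
      add_mem' := fun hx hy => N.add_mem hx hy
      zero_mem' := N.zero_mem
      smul_mem' := fun r x hx => hN (f.appTop r) _ hx }
  let Q := Γ(M, ⊤) ⧸ N'
  haveI : Subsingleton (K ⊗[Γ(S, ⊤)] Q) := by
    refine subsingleton_of_forall_eq 0 fun q => ?_
    obtain ⟨z, rfl⟩ := LinearMap.lTensor_surjective K N'.mkQ_surjective q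
    obtain ⟨b, t, hb, ht, hbt⟩ := h (bc.app ⊤ (E z))
    have hz : (ev s b) • z = (1 : K) ⊗ₜ[Γ(S, ⊤)] (show Γ(M, ⊤) from t) := by
      apply hinj
      dsimp only
      rw [hψ, map_one, one_smul, hbt, LinearEquiv.map_smul, Scheme.Modules.Hom.app_smul]
      rfl
    have h0 : (ev s b) • LinearMap.lTensor K N'.mkQ z = 0 := by
      rw [← LinearMap.baseChange_eq_ltensor, ← LinearMap.map_smul, hz, LinearMap.baseChange_tmul,
        Submodule.mkQ_apply, (Submodule.Quotient.mk_eq_zero N').2 ht, TensorProduct.tmul_zero]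
    exact (hb.smul_eq_zero).1 h0
  haveI hprime : (RingHom.ker (ev s)).IsPrime :=
    haveI : IsDomain Γ(Spec (S.residueField s), ⊤) := (isField_sections s).isDomain
    RingHom.ker_isPrime _
  let p : PrimeSpectrum Γ(S, ⊤) := ⟨RingHom.ker (ev s), hprime⟩
  haveI : p.asIdeal.IsPrime := hprime
  have hp : p ∉ Module.support Γ(S, ⊤) Q := by
    rw [Module.mem_support_iff_nontrivial_residueField_tensorProduct]
    intro hnt
    let j : p.asIdeal.ResidueField →+* K := Ideal.ResidueField.lift p.asIdeal (ev s) le_rfl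
      fun x hx => isUnit_iff_ne_zero.2 fun h0 => hx h0
    letI : Algebra p.asIdeal.ResidueField K := j.toAlgebra
    haveI : IsScalarTower Γ(S, ⊤) p.asIdeal.ResidueField K :=
      .of_algebraMap_eq fun r => (Ideal.ResidueField.lift_algebraMap p.asIdeal (ev s) _ _ r).symm
    haveI : Module.Free p.asIdeal.ResidueField K := Module.Free.of_divisionRing _ _
    haveI : Module.FaithfullyFlat p.asIdeal.ResidueField K := inferInstance
    haveI : Nontrivial (K ⊗[p.asIdeal.ResidueField] (p.asIdeal.ResidueField ⊗[Γ(S, ⊤)] Q)) :=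
      Module.FaithfullyFlat.lTensor_nontrivial p.asIdeal.ResidueField K _
    exact not_nontrivial (K ⊗[Γ(S, ⊤)] Q)
      ((TensorProduct.AlgebraTensorModule.cancelBaseChange Γ(S, ⊤) p.asIdeal.ResidueField K K Q).symm.nontrivial)
  rw [Module.support_eq_zeroLocus, PrimeSpectrum.mem_zeroLocus, Set.not_subset] at hp
  obtain ⟨a, ha, hap⟩ := hp
  refine ⟨a, isUnit_iff_ne_zero.2 fun h0 => hap h0, fun x => ?_⟩
  have h0 := Module.mem_annihilator.1 ha (N'.mkQ (show Γ(M, ⊤) from x))
  exact (Submodule.Quotient.mk_eq_zero N').1 h0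

end Groth.Agent.SpanNearLib
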